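import Groth.Agent.E4O.BaseChangeDim

/-!
Generic points over a given point in the fibres of a base change have full `fdeg`.
-/

universe u

open CategoryTheory AlgebraicGeometry Limits TopologicalSpace Topology
open Groth.Agent.E4O

namespace Groth.Agent.RelCyc93

variable {P X Y Y' : Scheme.{u}} {p : P ⟶ X} {q : P ⟶ Y'} {f : X ⟶ Y} {g : Y' ⟶ Y}

theorem fdeg_eq_of_generic [LocallyOfFiniteType f] (hsq : IsPullback p q f g) (a : P)
    (hgen : ∀ a' : P, a' ⤳ a → q a' = q a → p a' = p a → a' = a) :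
    fdeg q a = fdeg f (p a) := by
  have : LocallyOfFiniteType q := MorphismProperty.of_isPullback hsq inferInstance
  refine le_antisymm (fdeg_le_of_isPullback hsq a) ?_
  obtain ⟨m, hflat, hmo, -, hm⟩ := exists_fibre_map_flat hsq (q a)
  obtain ⟨z₀, hz₀⟩ := exists_fiberι_eq q (rfl : q a = q a)
  have ht : f.fiberι (g (q a)) (m z₀) = p a := by rw [hm, hz₀]
  let M : Set ↥(q.fiber (q a)) := m ⁻¹' closure {m z₀}
  have hM : IsClosed M := isClosed_closure.preimage m.continuous
  obtain ⟨C, ⟨c, hc⟩, -⟩ := exists_chart q a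
  let U : (q.fiber (q a)).Opens :=
    ⟨q.fiberι (q a) ⁻¹' Set.range C.pt, C.isOpen_range.preimage (q.fiberι (q a)).continuous⟩
  have hz₀U : z₀ ∈ U := by
    show q.fiberι (q a) z₀ ∈ Set.range C.pt
    exact ⟨c, hc.trans hz₀.symm⟩
  have : NoetherianSpace ↥(q ⁻¹' {q a} ∩ Set.range C.pt) := by
    have h1 := noetherianSpace_chartFibre C c
    rwa [hc] at h1
  have hUn : NoetherianSpace U := by
    let j : U → ↥(q ⁻¹' {q a} ∩ Set.range C.pt) :=
      fun w => ⟨q.fiberι (q a) w.1, apply_fiberι q (q a) w.1, w.2⟩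
    have hj : IsInducing j := by
      refine IsInducing.of_comp ?_ continuous_subtype_val
        ((isEmbedding_fiberι q (q a)).isInducing.comp IsInducing.subtypeVal)
      exact ((q.fiberι (q a)).continuous.comp continuous_subtype_val).subtype_mk _
    exact hj.noetherianSpace
  let MU : Set U := Subtype.val ⁻¹' M
  have hMU : IsClosed MU := hM.preimage continuous_subtype_val
  have hUs : QuasiSober U := U.2.isOpenEmbedding_subtypeVal.quasiSober
  have : QuasiSober MU := hMU.isClosedEmbedding_subtypeVal.quasiSober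
  let z₁ : MU := ⟨⟨z₀, hz₀U⟩, show m z₀ ∈ closure {m z₀} from subset_closure rfl⟩
  let Others : Set MU := ⋃₀ {T | T ∈ irreducibleComponents MU ∧ z₁ ∉ T}
  have hOthers : IsClosed Others := by
    rw [show Others = _ from Set.sUnion_eq_biUnion]
    exact Set.Finite.isClosed_biUnion (NoetherianSpace.finite_irreducibleComponents.subset fun T hT => hT.1)
      fun T hT => isClosed_of_mem_irreducibleComponents T hT.1
  let O : Set U := (Subtype.val '' Others)ᶜ
  have hO : IsOpen O := ((hMU.isClosedEmbedding_subtypeVal.isClosedMap _ hOthers)).isOpen_compl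
  let W : Set ↥(q.fiber (q a)) := Subtype.val '' O
  have hW : IsOpen W := U.2.isOpenEmbedding_subtypeVal.isOpenMap _ hO
  have hzW : z₀ ∈ W := ⟨⟨z₀, hz₀U⟩, (by
    rintro ⟨s, ⟨T, ⟨-, hzT⟩, hsT⟩, hs⟩
    have : s = z₁ := Subtype.ext hs
    exact hzT (this ▸ hsT)), rfl⟩
  have hWM : W ∩ M ⊆ closure {z₀} := by
    rintro _ ⟨⟨w, hwO, rfl⟩, hwM⟩
    let w₁ : MU := ⟨w, hwM⟩
    obtain ⟨T, hT, hwT⟩ : ∃ T ∈ irreducibleComponents MU, w₁ ∈ T :=
      ⟨_, irreducibleComponent_mem_irreducibleComponents w₁, mem_irreducibleComponent⟩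
    have hzT : z₁ ∈ T := by
      by_contra hzT
      exact hwO ⟨w₁, ⟨T, ⟨hT, hzT⟩, hwT⟩, rfl⟩
    obtain ⟨s, hs⟩ := QuasiSober.sober hT.1 (isClosed_of_mem_irreducibleComponents T hT)
    have hsz : (s.1.1 : ↥(q.fiber (q a))) ⤳ z₀ :=
      ((hs.specializes hzT).map continuous_subtype_val).map continuous_subtype_val
    have hsw : (s.1.1 : ↥(q.fiber (q a))) ⤳ w.1 :=
      ((hs.specializes hwT).map continuous_subtype_val).map continuous_subtype_val
    have hsM : m z₀ ⤳ m s.1.1 := specializes_iff_mem_closure.2 (s.2 : s.1.1 ∈ M)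
    have hms : m s.1.1 = m z₀ := (hsM.antisymm (hsz.map m.continuous)).eq.symm
    have he : q.fiberι (q a) s.1.1 = a := by
      refine hgen _ ?_ (apply_fiberι q (q a) _) ?_
      · exact (hsz.map (q.fiberι (q a)).continuous).trans (specializes_of_eq hz₀)
      · rw [← hm, hms, ht]
    have hs₀ : s.1.1 = z₀ := (isEmbedding_fiberι q (q a)).injective (he.trans hz₀.symm)
    exact specializes_iff_mem_closure.1 (hs₀ ▸ hsw)
  let S : Set ↥(f.fiber (g (q a))) := m '' W
  have hS : IsOpen S := hmo W hW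
  let K : Set S := Subtype.val ⁻¹' closure {m z₀}
  have hSs : QuasiSober S := hS.isOpenEmbedding_subtypeVal.quasiSober
  have : QuasiSober K := (isClosed_closure.preimage continuous_subtype_val).isClosedEmbedding_subtypeVal.quasiSober
  let r : ↥(W ∩ M) → K := fun w => ⟨⟨m w.1, w.1, w.2.1, rfl⟩, w.2.2⟩
  have hrs : Function.Surjective r := by
    rintro ⟨⟨_, w, hw, rfl⟩, hwK⟩
    exact ⟨⟨w, hw, hwK⟩, rfl⟩
  have hrg : GeneralizingMap r := fun w t htw => by
    obtain ⟨w', hw', hw't⟩ := Flat.generalizingMap m (a := w.1) (b := t.1.1)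
      ((htw.map continuous_subtype_val).map continuous_subtype_val)
    exact ⟨⟨w', hw'.mem_open hW w.2.1, show m w' ∈ closure {m z₀} from hw't.symm ▸ t.2⟩,
      (subtype_specializes_iff _ _).2 hw', Subtype.ext (Subtype.ext hw't)⟩
  have hle := Ega11.PointDim.dim_le_of_lift hrs (Or.inr hrg)
  have hK : topologicalKrullDim ↥K = (fdeg f (p a) : ℕ) := by
    obtain ⟨S', hS', hSS'⟩ := (isEmbedding_fiberι f (g (q a))).isInducing.isOpen_iff.1 hS
    rw [← dim_open_inter_fibreClosure (f := f) (p a) hS' (by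
      show p a ∈ S'
      rw [← ht]; exact hSS'.ge ⟨z₀, hzW, rfl⟩)]
    rw [dim_preimage_of_isEmbedding IsEmbedding.subtypeVal, Subtype.range_coe, ← hSS',
      ← ht, apply_fiberι]
    refine Eq.trans ?_ (dim_set_congr (show S' ∩ closure {f.fiberι (g (q a)) (m z₀)} ∩
      Set.range (f.fiberι (g (q a))) = _ by rw [f.range_fiberι, Set.inter_assoc]))
    rw [← dim_preimage_of_isEmbedding (isEmbedding_fiberι f (g (q a)))]
    refine dim_set_congr ?_
    rw [(isEmbedding_fiberι f (g (q a))).isInducing.closure_eq_preimage_closure_image, Set.image_singleton,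
      Set.preimage_inter, Set.inter_comm]
  have hz : topologicalKrullDim ↥(closure {z₀}) = (fdeg q a : ℕ) := by rw [dim_closure_fiber, hz₀]
  have := hle.trans ((TopDim50.dim_mono hWM).trans_eq hz)
  rw [hK] at this
  exact_mod_cast this

end Groth.Agent.RelCyc93
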